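import Groth.Agent.IsoAutLib.Abelian
/-!
An isomorphism of presheaves of classes gives isomorphisms of commutative automorphism groups, natural in the test
scheme.
-/

set_option autoImplicit false
set_option backward.isDefEq.respectTransparency false
set_option backward.isDefEq.respectTransparency.types false
set_option linter.unusedSectionVars false

universe u

open CategoryTheory CategoryTheory.Limits AlgebraicGeometry

namespace Groth.Agent.BGFormLib

open Groth.Agent.ASt Groth.Agent.RepOne Groth.Agent.IsoNatClean Groth.Agent.IsoAutLib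

variable {S : Scheme.{u}} {𝒳 𝒴 : AlgSt.Cat S} [h𝒳 : FibCat.IsFibGrpd 𝒳.p] [h𝒴 : FibCat.IsFibGrpd 𝒴.p]

/-! ### The correspondence over a fixed base -/

section Cor

variable {B : Over S} {y : FibCat.overCat B ⥤ᵇ 𝒳} {y' : FibCat.overCat B ⥤ᵇ 𝒴} (φ : IsoNat.FIso 𝒳 𝒴)

variable (y y') in
/-- Two automorphisms correspond when the classes glued by them do. -/
def Cor (s : AB y) (t : AB y') : Prop := ∃ z, Psi y ![1, s] z ∧ Psi y' ![1, t] (φ.toEquiv _ z)

variable (hst : Stk.IsStack (AlgSp.J S) 𝒳) (hst' : Stk.IsStack (AlgSp.J S) 𝒴)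
  (hd : AlgSt.RepByAlgSpWith (AlgSp.IsSeparatedMor ⊓ AlgSp.IsQuasiCompactMor)
    (FibCat.diag (FibCat.toSelf 𝒳)))
  (hd' : AlgSt.RepByAlgSpWith (AlgSp.IsSeparatedMor ⊓ AlgSp.IsQuasiCompactMor)
    (FibCat.diag (FibCat.toSelf 𝒴)))
  (he : φ.toEquiv B (Doubled.base0 y) = Doubled.base0 y')
  (hc : ∀ a b : AB y, a * b = b * a)

include he in
theorem isK_transfer {m : ℕ} (z : ClType 𝒳 (dbl B m).X) :
    IsK (Doubled.base0 y) m z ↔ IsK (Doubled.base0 y') m (φ.toEquiv _ z) := by
  rw [isK_iff φ]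
  exact iff_of_eq (congrArg (fun e => IsK e _ _) he)

include hst hst' hd' he in
theorem cor_total (s : AB y) : ∃ t, Cor y y' φ s t := by
  obtain ⟨z, hz⟩ := exists_psi hst ![1, s]
  obtain ⟨t, ht⟩ := exists_pair hst' hd' ((isK_transfer φ he z).1 (psi_isK hst hz))
  exact ⟨t, z, hz, ht⟩

include hst hst' hd he in
theorem cor_surj (t : AB y') : ∃ s, Cor y y' φ s t := by
  obtain ⟨w, hw⟩ := exists_psi hst' ![1, t]
  obtain ⟨z, rfl⟩ := (φ.toEquiv _).surjective w
  obtain ⟨s, hs⟩ := exists_pair hst hd ((isK_transfer φ he z).2 (psi_isK hst' hw))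
  exact ⟨s, z, hs, hw⟩

include hst hst' hd hd' he hc in
theorem cor_right {s : AB y} {t t' : AB y'} (h : Cor y y' φ s t) (h' : Cor y y' φ s t') : t = t' := by
  obtain ⟨z, hz, ht⟩ := h
  obtain ⟨z', hz', ht'⟩ := h'
  rw [(psi_eq_iff hst hd hz' hz).2 ⟨1, 1, fun i => by simp⟩] at ht'
  exact pair_injective hst' hd' ((commute_transfer φ hst hst' hd hd' he).1 hc) ht ht'

include hst hst' hd hd' hc in
theorem cor_left {s s' : AB y} {t : AB y'} (h : Cor y y' φ s t) (h' : Cor y y' φ s' t) : s = s' := by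
  obtain ⟨z, hz, ht⟩ := h
  obtain ⟨z', hz', ht'⟩ := h'
  rw [(φ.toEquiv _).injective ((psi_eq_iff hst' hd' ht' ht).2 ⟨1, 1, fun i => by simp⟩)] at hz'
  exact pair_injective hst hd hc hz hz'

include hst hst' hd hd' he hc in
theorem cor_div {u v w : AB y} {u' v' w' : AB y'} (hu : Cor y y' φ u u') (hv : Cor y y' φ v v')
    (hw : Cor y y' φ w w') (huv : w = u⁻¹ * v) : w' = u'⁻¹ * v' := by
  subst huv
  obtain ⟨z, hz⟩ := exists_psi hst ![1, u, v]
  obtain ⟨hzu, hzv, hzw⟩ := faces hst hd hz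
  obtain ⟨s, hs⟩ := exists_of_isK hst' ((isK_transfer φ he z).1 (psi_isK hst hz))
  have hs' : Psi y' ![1, (s 0)⁻¹ * s 1, (s 0)⁻¹ * s 2] (φ.toEquiv _ z) := by
    refine psi_shift hst' hd' hs (s 0) 1 fun i => ?_
    fin_cases i
    · exact ((mul_one _).trans (mul_one _).symm)
    · change s 1 * 1 = s 0 * ((s 0)⁻¹ * s 1)
      simp
    · change s 2 * 1 = s 0 * ((s 0)⁻¹ * s 2)
      simp
  obtain ⟨hu', hv', hw''⟩ := faces hst' hd' hs'
  have e : ∀ {σ : Fin 2 → Fin 3} (hσ : Function.Injective σ), φ.toEquiv _ (clMap (dblMap B σ hσ).F z) =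
      clMap (dblMap B σ hσ).F (show ClType 𝒴 (dbl B 3).X from φ.toEquiv _ z) := fun hσ => toEquiv_clMap φ _ z
  rw [← e inj01] at hu'
  rw [← e inj02] at hv'
  rw [← e inj12] at hw''
  rw [cor_right φ hst hst' hd hd' he hc hu ⟨_, hzu, hu'⟩, cor_right φ hst hst' hd hd' he hc hv ⟨_, hzv, hv'⟩,
    cor_right φ hst hst' hd hd' he hc hw ⟨_, hzw, hw''⟩]

/-- The image of an automorphism. -/
noncomputable def theta (s : AB y) : AB y' := (cor_total φ hst hst' hd' he s).choose

theorem cor_theta (s : AB y) : Cor y y' φ s (theta φ hst hst' hd' he s) :=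
  (cor_total φ hst hst' hd' he s).choose_spec

include hd hc in
theorem theta_div (u v : AB y) :
    theta φ hst hst' hd' he (u⁻¹ * v) = (theta φ hst hst' hd' he u)⁻¹ * theta φ hst hst' hd' he v :=
  cor_div φ hst hst' hd hd' he hc (cor_theta φ hst hst' hd' he u) (cor_theta φ hst hst' hd' he v)
    (cor_theta φ hst hst' hd' he _) rfl

include hd hc in
theorem theta_one : theta φ hst hst' hd' he 1 = 1 := by simpa using theta_div φ hst hst' hd hd' he hc 1 1

include hd hc in
theorem theta_mul (u v : AB y) :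
    theta φ hst hst' hd' he (u * v) = theta φ hst hst' hd' he u * theta φ hst hst' hd' he v := by
  have hi : ∀ w, theta φ hst hst' hd' he w⁻¹ = (theta φ hst hst' hd' he w)⁻¹ := fun w => by
    simpa [theta_one φ hst hst' hd hd' he hc] using theta_div φ hst hst' hd hd' he hc w 1
  simpa [hi] using theta_div φ hst hst' hd hd' he hc u⁻¹ v

/-- The isomorphism of commutative automorphism groups over the base. -/
noncomputable def corEquiv : AB y ≃* AB y' where
  toFun := theta φ hst hst' hd' he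
  invFun t := (cor_surj φ hst hst' hd he t).choose
  left_inv s := cor_left φ hst hst' hd hd' hc (cor_surj φ hst hst' hd he _).choose_spec
    (cor_theta φ hst hst' hd' he s)
  right_inv t := cor_right φ hst hst' hd hd' he hc (cor_theta φ hst hst' hd' he _)
    (cor_surj φ hst hst' hd he t).choose_spec
  map_mul' := theta_mul φ hst hst' hd hd' he hc

theorem cor_corEquiv (s : AB y) : Cor y y' φ s (corEquiv φ hst hst' hd hd' he hc s) :=
  cor_theta φ hst hst' hd' he s

end Cor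

/-! ### Change of the test scheme -/

/-- The functor of values over a test scheme. -/
noncomputable abbrev yT {B T : Over S} (y : FibCat.overCat B ⥤ᵇ 𝒳) (k : T ⟶ B) : FibCat.overCat T ⥤ᵇ 𝒳 :=
  BasedFunctor.comp (AlgSt.overMap k) y

variable {B : Over S} {y : FibCat.overCat B ⥤ᵇ 𝒳}

/-- An automorphism of a value of the functor over a test scheme, as one of the original functor. -/
def castT {T : Over S} (k : T ⟶ B) {V : Over S} {l : V ⟶ T} (σ : AutG (yT y k) l) : AutG y (l ≫ k) :=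
  ⟨σ.hom, σ.vert⟩

/-- The converse. -/
def mkT {T : Over S} (k : T ⟶ B) {V : Over S} {l : V ⟶ T} (σ : AutG y (l ≫ k)) : AutG (yT y k) l :=
  ⟨σ.hom, σ.vert⟩

theorem castT_mkT {T : Over S} (k : T ⟶ B) {V : Over S} {l : V ⟶ T} (σ : AutG y (l ≫ k)) :
    castT k (mkT k σ : AutG (yT y k) l) = σ := rfl

theorem castT_inj {T : Over S} (k : T ⟶ B) {V : Over S} {l : V ⟶ T} {σ τ : AutG (yT y k) l}
    (h : castT k σ = castT k τ) : σ = τ := AutG.ext (congrArg AutG.hom h :)

theorem castT_mul {T : Over S} (k : T ⟶ B) {V : Over S} {l : V ⟶ T} (σ τ : AutG (yT y k) l) :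
    castT k (σ * τ) = castT k σ * castT k τ := AutG.ext rfl

theorem res_castT {T : Over S} (k : T ⟶ B) {V V' : Over S} {l : V ⟶ T} {l' : V' ⟶ T} (h : V' ⟶ V)
    (e : h ≫ l = l') (σ : AutG (yT y k) l) :
    castT k (AutG.res h e σ) = AutG.res h (by rw [← e, Category.assoc]) (castT k σ) :=
  AutG.eq_res _ _ _ _ (AutG.res_comp h e σ)

/-- Automorphisms over a test scheme, read over the base of the new functor. -/
noncomputable def upT {T : Over S} (k : T ⟶ B) : AutG y k ≃* AB (yT y k) where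
  toFun a := mkT k (AutG.res (𝟙 T) rfl a)
  invFun σ := AutG.res (𝟙 T) (by simp) (castT k σ)
  left_inv a := by
    change AutG.res (𝟙 T) _ (AutG.res (𝟙 T) _ a) = a
    exact (res_res_eq (Category.comp_id _) _ _ (Category.id_comp _) a).trans (AutG.res_id a)
  right_inv σ := by
    refine castT_inj k ?_
    rw [castT_mkT]
    exact (res_res_eq (Category.comp_id _) _ _ (Category.id_comp _) _).trans (AutG.res_id _)
  map_mul' a b := castT_inj k (by rw [castT_mul, castT_mkT, castT_mkT, castT_mkT, AutG.res_mul])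

/-- Restriction between test schemes. -/
noncomputable def move {T T' : Over S} {k : T ⟶ B} {k' : T' ⟶ B} (g : T' ⟶ T) (e : g ≫ k = k')
    (a : AB (yT y k)) : AB (yT y k') :=
  mkT k' (AutG.res g (by rw [Category.id_comp, Category.id_comp, e]) (castT k a))

theorem move_one {T T' : Over S} {k : T ⟶ B} {k' : T' ⟶ B} (g : T' ⟶ T) (e : g ≫ k = k') :
    move (y := y) g e 1 = 1 := by
  refine castT_inj k' ?_
  rw [move, castT_mkT, show castT k (1 : AB (yT y k)) = 1 from AutG.ext rfl, AutG.res_one]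
  exact AutG.ext rfl

theorem move_upT {T T' : Over S} {k : T ⟶ B} {k' : T' ⟶ B} (g : T' ⟶ T) (e : g ≫ k = k') (a : AutG y k) :
    move g e (upT k a) = upT k' (AutG.res g e a) := by
  refine castT_inj k' ?_
  change AutG.res g _ (AutG.res (𝟙 T) _ a) = AutG.res (𝟙 T') _ (AutG.res g e a)
  rw [AutG.res_res, AutG.res_res]
  exact AutG.res_congr (by simp) _ a

theorem move_pair {T T' : Over S} {k : T ⟶ B} {k' : T' ⟶ B} (g : T' ⟶ T) (e : g ≫ k = k') (t : AB (yT y k)) :
    (fun i => move g e (![1, t] i)) = ![1, move g e t] := by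
  funext i
  fin_cases i
  · exact move_one g e
  · rfl

theorem castT_const {T : Over S} (k : T ⟶ B) {V : Over S} (l : V ⟶ T) (a : AB (yT y k)) :
    castT k (const l a) = AutG.res l (by rw [Category.id_comp]) (castT k a) :=
  res_castT k l (Category.comp_id l) a

/-! ### The map of doubled axes -/

namespace BaseChange

variable {T T' : Over S} (g : T' ⟶ T)

/-- The map of axes. -/
noncomputable def cR (m : ℕ) : Cross.R m T' ⟶ Cross.R m T :=
  Cross.pt (Cross.proj m T' ≫ g) (fun i => Cross.x i) fun _ _ h => Cross.x_mul h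

theorem cR_proj (m : ℕ) : cR g m ≫ Cross.proj m T = Cross.proj m T' ≫ g := Cross.pt_proj _ _ _

theorem xv_cR (m : ℕ) (i : Fin m) : Cross.xv (cR g m) i = Cross.x i := Cross.xv_pt _ _ _ i

theorem br_cR {m : ℕ} (i : Fin m) : Cross.br T' i ≫ cR g m = cR g 1 ≫ Cross.br T i := by
  refine Cross.hom_ext ?_ fun j => ?_
  · rw [Category.assoc, Category.assoc, cR_proj, Cross.br_proj, reassoc_of% (Cross.br_proj T' i), cR_proj]
  · rw [Cross.xv_comp, Cross.xv_comp, xv_cR]
    by_cases h : j = i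
    · subst h
      rw [Cross.xv_br_self]
      exact (Cross.xv_br_self T' j).trans (xv_cR g 1 0).symm
    · rw [Cross.xv_br_ne T h, map_zero]
      exact Cross.xv_br_ne T' h

theorem cR_W (m : ℕ) :
    Set.range ((dbl T' m).ιW ≫ cR g m).left ⊆ ((dbl T m).W : Set ↥(dbl T m).R.left) := by
  rintro _ ⟨w, rfl⟩
  obtain ⟨i, hi⟩ := Cross.mem_W.1 (w : ↥(Cross.W m T')).2
  refine Cross.mem_W.2 ⟨i, ?_⟩
  have : (dbl T' m).ιW.left w ∈ (cR g m).left ⁻¹ᵁ Cross.U T i := by
    rw [Cross.preimage_U, xv_cR]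
    exact hi
  exact this

/-- The map of punctured axes. -/
noncomputable def cW (m : ℕ) : (dbl T' m).Wo ⟶ (dbl T m).Wo :=
  (dbl T m).liftW ((dbl T' m).ιW ≫ cR g m) (cR_W g m)

theorem cW_ι (m : ℕ) : cW g m ≫ (dbl T m).ιW = (dbl T' m).ιW ≫ cR g m := (dbl T m).liftW_fac _ _

theorem br_cW {m : ℕ} (i : Fin m) :
    (dblBr T' i).g ≫ cW g m = cW g 1 ≫ (dblBr T i).g := by
  refine (cancel_mono (dbl T m).ιW).1 ?_
  rw [Category.assoc, Category.assoc, cW_ι, (dblBr T i).hg, reassoc_of% (dblBr T' i).hg, reassoc_of% (cW_ι g 1)]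
  exact congrArg ((dbl T' 1).ιW ≫ ·) (br_cR g i)

theorem cW_r (m : ℕ) :
    cW g m ≫ (dbl T m).ιW ≫ (dbl T m).r = ((dbl T' m).ιW ≫ (dbl T' m).r) ≫ g := by
  rw [reassoc_of% (cW_ι g m), Category.assoc]
  exact congrArg ((dbl T' m).ιW ≫ ·) (cR_proj g m)

/-- The map of doubled axes. -/
noncomputable def cF (m : ℕ) : (dbl T' m).X ⟶ (dbl T m).X :=
  Over.homMk (pushout.desc ((cR g m ≫ (dbl T m).i false).left) ((cR g m ≫ (dbl T m).i true).left) (by
      have h : (cW g m ≫ (dbl T m).ιW) ≫ (dbl T m).i false = (cW g m ≫ (dbl T m).ιW) ≫ (dbl T m).i true := by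
        rw [Category.assoc, Category.assoc, (dbl T m).agree']
      rw [cW_ι, Category.assoc, Category.assoc] at h
      exact congrArg (fun k => k.left) h)) (by
    refine pushout.hom_ext ?_ ?_
    · erw [pushout.inl_desc_assoc]
      exact (Over.w (cR g m ≫ (dbl T m).i false)).trans (Over.w ((dbl T' m).i false)).symm
    · erw [pushout.inr_desc_assoc]
      exact (Over.w (cR g m ≫ (dbl T m).i true)).trans (Over.w ((dbl T' m).i true)).symm)

theorem i_cF (m : ℕ) (s : Bool) : (dbl T' m).i s ≫ cF g m = cR g m ≫ (dbl T m).i s := by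
  refine Over.OverMorphism.ext ?_
  rcases s with _ | _
  · exact pushout.inl_desc _ _ _
  · exact pushout.inr_desc _ _ _

variable {g}

theorem exists_pullback {k : T ⟶ B} {k' : T' ⟶ B} (e : g ≫ k = k') {m : ℕ}
    {c : AW (yT y k) m} (P : (dbl T m).Twisted c) :
    ∃ (c' : AW (yT y k') m) (P' : (dbl T' m).Twisted c'),
      castT k' c' = AutG.res (cW g m) (by
        rw [← Category.assoc, cW_r, Category.assoc, e]) (castT k c) ∧
      P'.el = clMap (cF g m) P.el := by
  let u := pullHom P.pt P.base (cF g m)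
  have e1 : cR g m ≫ (dbl T m).r ≫ k = (dbl T' m).r ≫ k' := by
    rw [← e, ← Category.assoc (cR g m), ← Category.assoc _ g]
    exact congrArg (· ≫ k) (cR_proj g m)
  have e2 : cW g m ≫ ((dbl T m).ιW ≫ (dbl T m).r) ≫ k = ((dbl T' m).ιW ≫ (dbl T' m).r) ≫ k' := by
    rw [← Category.assoc, cW_r, Category.assoc, e]
  let j : y.obj (ov ((dbl T' m).r ≫ k')) ⟶ y.obj (ov ((dbl T m).r ≫ k)) := y.map (ovHom (cR g m) e1)
  let q : y.obj (ov ((dbl T m).r ≫ k)) = (yT y k).obj (ov (dbl T m).r) := rfl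
  have hj : ∀ s, (eqToHom (((yT y k').w_obj (ov (dbl T' m).r)).trans (ov_base _)) ≫ (dbl T' m).i s ≫
      eqToHom (pull_base P.pt P.base (cF g m)).symm) ≫ 𝒳.p.map u = 𝒳.p.map (j ≫ P.J s) := fun s => by
    rw [Functor.map_comp, P.map_J, map_pullHom]
    simp [j, map_w, ov_p_map, reassoc_of% (i_cF g m s)]
  let J : Bool → ((yT y k').obj (ov (dbl T' m).r) ⟶ pull P.pt P.base (cF g m)) :=
    fun s => facMap u (j ≫ P.J s) _ (hj s)
  have hJ : ∀ s, J s ≫ u = j ≫ P.J s := fun s => facMap_comp _ _ _ (hj s)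
  let c' : AW (yT y k') m := mkT k' (AutG.res (cW g m) e2 (castT k c))
  refine ⟨c', ⟨pull P.pt P.base (cF g m), pull_base _ _ _, J, fun s => map_facMap _ _ _ (hj s), ?_⟩, rfl, rfl⟩
  refine hom_ext u ?_ ?_
  · simp only [Functor.map_comp, AutG.vert, Category.id_comp, J, map_facMap, map_w, ov_p_map]
    simp only [Category.assoc, eqToHom_trans_assoc, eqToHom_refl, Category.id_comp]
    exact congrArg (eqToHom _ ≫ ·) ((reassoc_of% (dbl T' m).agree') _)
  · let i' : y.obj (ov (((dbl T' m).ιW ≫ (dbl T' m).r) ≫ k')) ⟶ y.obj (ov ((dbl T' m).r ≫ k')) :=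
      y.map (ovHom (dbl T' m).ιW (Category.assoc _ _ _).symm)
    let i : y.obj (ov (((dbl T m).ιW ≫ (dbl T m).r) ≫ k)) ⟶ y.obj (ov ((dbl T m).r ≫ k)) :=
      y.map (ovHom (dbl T m).ιW (Category.assoc _ _ _).symm)
    have key : i' ≫ j = y.map (ovHom (cW g m) e2) ≫ i := by
      rw [← Functor.map_comp, ← Functor.map_comp]
      refine congrArg y.map (Over.OverMorphism.ext ?_)
      exact (cW_ι g m).symm
    have rel : i ≫ P.J false = (castT k c).hom ≫ i ≫ P.J true := P.rel
    change (i' ≫ J false) ≫ u = ((AutG.res (cW g m) e2 (castT k c)).hom ≫ i' ≫ J true) ≫ u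
    simp only [Category.assoc, hJ, reassoc_of% key]
    rw [rel, AutG.res_comp_assoc]

theorem psi_move {k : T ⟶ B} {k' : T' ⟶ B} (e : g ≫ k = k') {m : ℕ} {s : Fin m → AB (yT y k)}
    {z : ClType 𝒳 (dbl T m).X} (h : Psi (yT y k) s z) :
    Psi (yT y k') (fun i => move g e (s i)) (clMap (cF g m) z) := by
  obtain ⟨c, P, hc, rfl⟩ := h
  obtain ⟨c', P', hc', hP'⟩ := exists_pullback e P
  refine ⟨c', P', fun i => castT_inj k' ?_, hP'⟩
  change castT k' (AutG.res (dblBr T' i).g _ c') = _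
  rw [res_castT, hc', castT_const]
  change _ = AutG.res _ _ (AutG.res g _ (castT k (s i)))
  have h1 : AutG.res (dblBr T i).g _ (castT k c) = AutG.res ((dbl T 1).ιW ≫ (dbl T 1).r) _ (castT k (s i)) :=
    ((res_castT k _ (dblBr T i).hk c).symm.trans (congrArg (castT k) (hc i))).trans (castT_const k _ _)
  rw [AutG.res_res, AutG.res_congr (br_cW g i), ← AutG.res_res (g' := cW g 1) (k' := ((dbl T 1).ιW ≫ (dbl T 1).r) ≫ k)
    (e' := by rw [← Category.assoc, cW_r, Category.assoc, e]) (g := (dblBr T i).g)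
    (e := by rw [← Category.assoc, (dblBr T i).hk]), h1, AutG.res_res, AutG.res_res]
  exact AutG.res_congr (cW_r g 1) _ _

end BaseChange

/-! ### The natural isomorphism -/

section Phi

variable {y' : FibCat.overCat B ⥤ᵇ 𝒴} (φ : IsoNat.FIso 𝒳 𝒴) (hst : Stk.IsStack (AlgSp.J S) 𝒳)
  (hst' : Stk.IsStack (AlgSp.J S) 𝒴)
  (hd : AlgSt.RepByAlgSpWith (AlgSp.IsSeparatedMor ⊓ AlgSp.IsQuasiCompactMor)
    (FibCat.diag (FibCat.toSelf 𝒳)))
  (hd' : AlgSt.RepByAlgSpWith (AlgSp.IsSeparatedMor ⊓ AlgSp.IsQuasiCompactMor)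
    (FibCat.diag (FibCat.toSelf 𝒴)))
  (he : φ.toEquiv B (Doubled.base0 y) = Doubled.base0 y')
  (hc : ∀ {T : Over S} (k : T ⟶ B) (a b : AutG y k), a * b = b * a)

include he in
theorem base0_yT {T : Over S} (k : T ⟶ B) :
    φ.toEquiv T (Doubled.base0 (yT y k)) = Doubled.base0 (yT y' k) := by
  have h : φ.toEquiv T (clMap (𝟙 T ≫ k) (Doubled.base0 y)) = clMap (𝟙 T ≫ k) (Doubled.base0 y') :=
    (toEquiv_clMap φ _ _).trans (congrArg (clMap (𝟙 T ≫ k)) he)
  rw [Doubled.clMap_base0, Doubled.clMap_base0] at h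
  exact h

include hc in
theorem comm_yT {T : Over S} (k : T ⟶ B) (a b : AB (yT y k)) : a * b = b * a := by
  obtain ⟨a, rfl⟩ := (upT k).surjective a
  obtain ⟨b, rfl⟩ := (upT k).surjective b
  rw [← map_mul, ← map_mul, hc k a b]

/-- The natural isomorphism of automorphism groups. -/
noncomputable def phi {T : Over S} (k : T ⟶ B) : AutG y k ≃* AutG y' k :=
  (upT k).trans ((corEquiv φ hst hst' hd hd' (base0_yT φ he k) (comm_yT hc k)).trans (upT k).symm)

theorem upT_phi {T : Over S} (k : T ⟶ B) (a : AutG y k) :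
    upT k (phi φ hst hst' hd hd' he hc k a) =
      corEquiv φ hst hst' hd hd' (base0_yT φ he k) (comm_yT hc k) (upT k a) :=
  (upT k).apply_symm_apply _

theorem phi_res {T T' : Over S} {k : T ⟶ B} {k' : T' ⟶ B} (g : T' ⟶ T) (e : g ≫ k = k') (a : AutG y k) :
    phi φ hst hst' hd hd' he hc k' (AutG.res g e a) = AutG.res g e (phi φ hst hst' hd hd' he hc k a) := by
  refine (upT k').injective ?_
  rw [← move_upT, upT_phi, upT_phi, ← move_upT]
  refine cor_right φ hst hst' hd hd' (base0_yT φ he k') (comm_yT hc k') (cor_corEquiv φ hst hst' hd hd'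
    (base0_yT φ he k') (comm_yT hc k') _) ?_
  obtain ⟨z, hz, hz'⟩ := cor_corEquiv φ hst hst' hd hd' (base0_yT φ he k) (comm_yT hc k) (upT k a)
  refine ⟨clMap (BaseChange.cF g 2) z, move_pair (y := y) g e (upT k a) ▸ BaseChange.psi_move (y := y) e hz, ?_⟩
  have h := BaseChange.psi_move (y := y') e hz'
  rw [move_pair (y := y') g e] at h
  rw [toEquiv_clMap φ]
  exact h

end Phi

end Groth.Agent.BGFormLib
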