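import Groth.Agent.StackExtLib.Extend
import Groth.Agent.IsoAutLib.Abelian
/-!
Two stacks locally isomorphic to objects over a terminal base with naturally isomorphic automorphism groups are
equivalent.
-/

set_option autoImplicit false
set_option backward.isDefEq.respectTransparency false
set_option backward.isDefEq.respectTransparency.types false
set_option linter.unusedSectionVars false
set_option linter.style.haveILetI false

universe u

open CategoryTheory AlgebraicGeometry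

namespace Groth.Agent.BGFormLib

open Groth.Agent.ASt Groth.Agent.RepOne Groth.Agent.IsoNatClean Groth.Agent.IsoAutLib Groth.Agent.StackExtLib

variable {S : Scheme.{u}} {𝒳 𝒴 : AlgSt.Cat S} [h𝒳 : FibCat.IsFibGrpd 𝒳.p] [h𝒴 : FibCat.IsFibGrpd 𝒴.p]
  {B : Over S}

/-- The data comparing two forms over a terminal base. -/
structure FormData (y : FibCat.overCat B ⥤ᵇ 𝒳) (y' : FibCat.overCat B ⥤ᵇ 𝒴) where
  term : ∀ {T : Over S} (a b : T ⟶ B), a = b
  /-- the isomorphisms -/
  Φ : ∀ {T : Over S} (k : T ⟶ B), AutG y k ≃* AutG y' k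
  nat : ∀ {T T' : Over S} {k : T ⟶ B} {k' : T' ⟶ B} (g : T' ⟶ T) (e : g ≫ k = k') (a : AutG y k),
    Φ k' (AutG.res g e a) = AutG.res g e (Φ k a)

variable {y : FibCat.overCat B ⥤ᵇ 𝒳} {y' : FibCat.overCat B ⥤ᵇ 𝒴} (D : FormData y y') {T T' T'' : Over S}
  {k : T ⟶ B} {k' : T' ⟶ B} {k'' : T'' ⟶ B}

/-- The morphism of bases. -/
noncomputable def lbase (m : y.obj (ov k) ⟶ y.obj (ov k')) : T ⟶ T' :=
  eqToHom ((y.w_obj (ov k)).trans (ov_base k)).symm ≫ 𝒳.p.map m ≫ eqToHom ((y.w_obj (ov k')).trans (ov_base k'))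

theorem part_aux (m : y.obj (ov k) ⟶ y.obj (ov k')) (h : lbase m ≫ k' = k) :
    𝟙 _ ≫ 𝒳.p.map (y.map (ovHom (lbase m) h)) = 𝒳.p.map m := by
  rw [map_w, ov_p_map]
  simp [lbase]

/-- The vertical part. -/
noncomputable def part (m : y.obj (ov k) ⟶ y.obj (ov k')) : AutG y k :=
  ⟨facMap (y.map (ovHom (lbase m) (D.term _ _))) m (𝟙 _) (part_aux m _), map_facMap _ _ _ (part_aux m _)⟩

theorem part_comp (m : y.obj (ov k) ⟶ y.obj (ov k')) :
    (part D m).hom ≫ y.map (ovHom (lbase m) (D.term _ _)) = m := facMap_comp _ _ _ (part_aux m _)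

/-- The transported morphism. -/
noncomputable def tr (m : y.obj (ov k) ⟶ y.obj (ov k')) : y'.obj (ov k) ⟶ y'.obj (ov k') :=
  (D.Φ k (part D m)).hom ≫ y'.map (ovHom (lbase m) (D.term _ _))

theorem map_tr (m : y.obj (ov k) ⟶ y.obj (ov k')) :
    𝒴.p.map (tr D m) = eqToHom ((y'.w_obj (ov k)).trans (ov_base k)) ≫ lbase m ≫
      eqToHom ((y'.w_obj (ov k')).trans (ov_base k')).symm := by
  rw [tr, Functor.map_comp, AutG.vert, Category.id_comp, map_w, ov_p_map]
  simp

theorem tr_eq (a : AutG y k) (l : T ⟶ T') (h : l ≫ k' = k) :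
    tr D (a.hom ≫ y.map (ovHom l h)) = (D.Φ k a).hom ≫ y'.map (ovHom l h) := by
  have hl : lbase (a.hom ≫ y.map (ovHom l h)) = l := by
    rw [lbase, Functor.map_comp, a.vert, map_w, ov_p_map]
    simp
  have ho : ovHom (lbase (a.hom ≫ y.map (ovHom l h))) (D.term _ _) = ovHom l h := Over.OverMorphism.ext hl
  have hp : part D (a.hom ≫ y.map (ovHom l h)) = a := by
    refine AutG.ext (hom_ext (y.map (ovHom l h)) ((AutG.vert _).trans a.vert.symm) ?_)
    refine Eq.trans ?_ (part_comp D (a.hom ≫ y.map (ovHom l h)))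
    rw [ho]
  rw [tr, hp, ho]

theorem tr_id (k : T ⟶ B) : tr D (𝟙 (y.obj (ov k))) = 𝟙 _ := by
  have h : ovHom (𝟙 T) (Category.id_comp k) = 𝟙 (ov k) := Over.OverMorphism.ext rfl
  conv_lhs => rw [show 𝟙 (y.obj (ov k)) = (1 : AutG y k).hom ≫ y.map (ovHom (𝟙 T) (Category.id_comp k)) from by
    rw [h, AutG.one_hom, CategoryTheory.Functor.map_id, Category.id_comp]]
  rw [tr_eq, map_one, h, AutG.one_hom, CategoryTheory.Functor.map_id, Category.id_comp]

theorem tr_comp (m : y.obj (ov k) ⟶ y.obj (ov k')) (n : y.obj (ov k') ⟶ y.obj (ov k'')) :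
    tr D (m ≫ n) = tr D m ≫ tr D n := by
  conv_lhs => rw [← part_comp D m, ← part_comp D n]
  have h : (lbase m ≫ lbase n) ≫ k'' = k := D.term _ _
  have ho : ovHom (lbase m ≫ lbase n) h =
      ovHom (lbase m) (D.term (lbase m ≫ k') k) ≫ ovHom (lbase n) (D.term (lbase n ≫ k'') k') :=
    Over.OverMorphism.ext rfl
  have he : ((part D m).hom ≫ y.map (ovHom (lbase m) (D.term _ _))) ≫
      (part D n).hom ≫ y.map (ovHom (lbase n) (D.term _ _)) =
      (part D m * AutG.res (lbase m) (D.term _ _) (part D n) : AutG y k).hom ≫ y.map (ovHom (lbase m ≫ lbase n) h) := by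
    rw [ho, Functor.map_comp, AutG.mul_hom, Category.assoc, Category.assoc, AutG.res_comp_assoc]
  rw [he, tr_eq, map_mul, D.nat, ho, Functor.map_comp, AutG.mul_hom, Category.assoc, AutG.res_comp_assoc]
  simp only [tr, Category.assoc]

theorem tr_injective : Function.Injective (tr D (k := k) (k' := k')) := by
  intro m n h
  have hl : lbase m = lbase n := by
    have h1 := congrArg (fun j => 𝒴.p.map j) h
    simp only [map_tr] at h1
    simpa [cancel_epi, cancel_mono] using h1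
  have ho : ovHom (lbase m) (D.term (lbase m ≫ k') k) = ovHom (lbase n) (D.term (lbase n ≫ k') k) :=
    Over.OverMorphism.ext hl
  rw [tr, tr, ho] at h
  have := (D.Φ k).injective (AutG.ext (hom_ext _ ((AutG.vert _).trans (AutG.vert _).symm) h))
  rw [← part_comp D m, ← part_comp D n, this, ho]

theorem tr_surjective : Function.Surjective (tr D (k := k) (k' := k')) := by
  intro n
  let l : T ⟶ T' :=
    eqToHom ((y'.w_obj (ov k)).trans (ov_base k)).symm ≫ 𝒴.p.map n ≫ eqToHom ((y'.w_obj (ov k')).trans (ov_base k'))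
  have e : 𝟙 _ ≫ 𝒴.p.map (y'.map (ovHom l (D.term _ k))) = 𝒴.p.map n := by
    rw [map_w, ov_p_map]
    simp [l]
  let a : AutG y' k := ⟨facMap _ n (𝟙 _) e, map_facMap _ _ _ e⟩
  refine ⟨((D.Φ k).symm a).hom ≫ y.map (ovHom l (D.term _ k)), ?_⟩
  rw [tr_eq, MulEquiv.apply_symm_apply]
  exact facMap_comp _ _ _ e

/-- The objects with a morphism to a value of the functor. -/
def InForm (y : FibCat.overCat B ⥤ᵇ 𝒳) (x : 𝒳.obj) : Prop :=
  ∃ (T : Over S) (k : T ⟶ B), Nonempty (x ⟶ y.obj (ov k))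

theorem exists_xi (q : (sub 𝒳 (InForm y)).obj) :
    ∃ (k : 𝒳.p.obj q.obj ⟶ B) (ξ : q.obj ≅ y.obj (ov k)),
      𝒳.p.map ξ.hom = eqToHom ((y.w_obj (ov k)).trans (ov_base k)).symm := by
  obtain ⟨T, k, ⟨h⟩⟩ := q.property
  let l : 𝒳.p.obj q.obj ⟶ T := 𝒳.p.map h ≫ eqToHom ((y.w_obj (ov k)).trans (ov_base k))
  let ξ := facMap (y.map (ovHom l rfl)) h (eqToHom ((y.w_obj (ov (l ≫ k))).trans (ov_base _)).symm) (by
    rw [map_w, ov_p_map]
    simp [l])
  have hξ := map_facMap (y.map (ovHom l rfl)) h (eqToHom ((y.w_obj (ov (l ≫ k))).trans (ov_base _)).symm) (by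
    rw [map_w, ov_p_map]
    simp [l])
  haveI := isIso_of_vert ξ hξ
  exact ⟨l ≫ k, asIso ξ, hξ⟩

variable (q : (sub 𝒳 (InForm y)).obj)

/-- The structure map of a member. -/
noncomputable def kq : 𝒳.p.obj q.obj ⟶ B := (exists_xi q).choose

/-- The chosen isomorphism of a member. -/
noncomputable def xi : q.obj ≅ y.obj (ov (kq q)) := (exists_xi q).choose_spec.choose

theorem map_xi : 𝒳.p.map (xi q).hom = eqToHom ((y.w_obj (ov (kq q))).trans (ov_base (kq q))).symm :=
  (exists_xi q).choose_spec.choose_spec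

theorem map_xi_inv : 𝒳.p.map (xi q).inv = eqToHom ((y.w_obj (ov (kq q))).trans (ov_base (kq q))) := by
  rw [← Category.id_comp (eqToHom ((y.w_obj (ov (kq q))).trans (ov_base (kq q)))), ← 𝒳.p.map_id, ← (xi q).inv_hom_id,
    Functor.map_comp, map_xi, Category.assoc, eqToHom_trans, eqToHom_refl, Category.comp_id]

variable {q}

/-- The functor on members. -/
noncomputable def formFun : sub 𝒳 (InForm y) ⥤ᵇ 𝒴 where
  toFunctor :=
    { obj := fun q => y'.obj (ov (kq q))
      map := fun {q q'} f => tr D ((xi q).inv ≫ f.hom ≫ (xi q').hom)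
      map_id := fun q => by
        rw [show (𝟙 q : q ⟶ q).hom = 𝟙 q.obj from rfl, Category.id_comp, Iso.inv_hom_id, tr_id]
      map_comp := fun {q q' q''} f g => by
        rw [← tr_comp, show (f ≫ g).hom = f.hom ≫ g.hom from rfl]
        simp only [Category.assoc, Iso.hom_inv_id_assoc] }
  w := CategoryTheory.Functor.ext (F := _ ⋙ 𝒴.p) (G := (sub 𝒳 (InForm y)).p)
    (fun q => (y'.w_obj (ov (kq q))).trans (ov_base (kq q))) fun q q' f => by
      change 𝒴.p.map (tr D _) = _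
      rw [map_tr, lbase, Functor.map_comp, Functor.map_comp, map_xi, map_xi_inv]
      simp only [Category.assoc, eqToHom_trans, eqToHom_refl, eqToHom_trans_assoc, Category.id_comp, Category.comp_id]
      rfl

instance : (formFun D).toFunctor.Faithful := ⟨fun {q q'} {f g} h => ObjectProperty.hom_ext _
  ((cancel_mono (xi q').hom).1 ((cancel_epi (xi q).inv).1 (tr_injective D h)))⟩

instance : (formFun D).toFunctor.Full := ⟨fun {q q'} n => by
  obtain ⟨m, hm⟩ := tr_surjective D n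
  refine ⟨ObjectProperty.homMk ((xi q).hom ≫ m ≫ (xi q').inv), ?_⟩
  change tr D ((xi q).inv ≫ ((xi q).hom ≫ m ≫ (xi q').inv) ≫ (xi q').hom) = n
  simp [hm]⟩

/-- A class is locally that of the tautological one. -/
def IsLocForm (y : FibCat.overCat B ⥤ᵇ 𝒳) {T : Over S} (c : ClType 𝒳 T) : Prop :=
  ∃ R ∈ (AlgSp.J S) T, ∀ ⦃V : Over S⦄ (g : V ⟶ T), R g →
    ∃ k : V ⟶ B, clMap g c = clMap k (Doubled.base0 y)

theorem inForm_of_clMap {x : 𝒳.obj} {V : Over S} (g : V ⟶ 𝒳.p.obj x) (k : V ⟶ B)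
    (h : clMap g (cl x rfl) = clMap k (Doubled.base0 y)) :
    ∃ a : pull x rfl g ⟶ y.obj (ov k),
      𝒳.p.map a = eqToHom ((pull_base x rfl g).trans ((y.w_obj (ov k)).trans (ov_base k)).symm) := by
  rw [Doubled.clMap_base0, clMap_cl_pull] at h
  exact cl_eq_iff.1 h

include D in
theorem exists_equiv_of_form (hX : Stk.IsStack (AlgSp.J S) 𝒳) (hY : Stk.IsStack (AlgSp.J S) 𝒴)
    (hloc : ∀ {T : Over S} (c : ClType 𝒳 T), IsLocForm y c)
    (hloc' : ∀ {T : Over S} (c : ClType 𝒴 T), IsLocForm y' c) :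
    ∃ e : 𝒳 ⥤ᵇ 𝒴, FibCat.IsEquivOver e := by
  let L : LocData (AlgSp.J S) 𝒳 𝒴 :=
    { Q := InForm y
      pull_mem := fun f ⟨T, k, ⟨h⟩⟩ => ⟨T, k, ⟨f ≫ h⟩⟩
      cover := fun x => by
        obtain ⟨R, hR, h⟩ := hloc (cl x rfl)
        exact ⟨R, hR, fun V g hg => by
          obtain ⟨k, hk⟩ := h g hg
          obtain ⟨a, -⟩ := inForm_of_clMap g k hk
          exact ⟨V, k, ⟨a⟩⟩⟩
      F := formFun D
      stack := hY }
  haveI : L.F.toFunctor.Faithful := inferInstanceAs (formFun D).toFunctor.Faithful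
  haveI : L.F.toFunctor.Full := inferInstanceAs (formFun D).toFunctor.Full
  refine exists_equiv (D := L) hX fun z => ?_
  obtain ⟨R, hR, h⟩ := hloc' (cl z rfl)
  refine ⟨R, hR, fun V g hg => ?_⟩
  obtain ⟨k, hk⟩ := h g hg
  obtain ⟨a, ha⟩ := inForm_of_clMap g k hk
  haveI := isIso_of_vert a ha
  let q : (sub 𝒳 (InForm y)).obj := ⟨y.obj (ov k), V, k, ⟨𝟙 _⟩⟩
  have hq : 𝒳.p.obj q.obj = V := (y.w_obj (ov k)).trans (ov_base k)
  let j : y'.obj (ov (kq q)) ⟶ y'.obj (ov k) := y'.map (ovHom (eqToHom hq) (D.term _ _))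
  refine ⟨q, hq, j ≫ inv a ≫ pullHom z rfl g, ?_⟩
  have hai : 𝒴.p.map (inv a) =
      eqToHom (((y'.w_obj (ov k)).trans (ov_base k)).trans (pull_base z rfl g).symm) := by
    rw [Functor.map_inv, IsIso.inv_eq_of_hom_inv_id]
    rw [ha]
    simp
  change 𝒴.p.map (j ≫ inv a ≫ pullHom z rfl g) = _
  rw [Functor.map_comp, Functor.map_comp, hai, map_pullHom, map_w, ov_p_map]
  simp

end Groth.Agent.BGFormLib
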