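import Groth.Agent.BGFormLib.AutIso
import Groth.Agent.BGFormLib.Form
import Groth.Agent.DecSec.QuotTriv
/-!
The classifying stack of a commutative group is determined by its presheaf of classes.
-/

set_option autoImplicit false
set_option backward.isDefEq.respectTransparency false
set_option backward.isDefEq.respectTransparency.types false
set_option linter.unusedSectionVars false
set_option linter.style.haveILetI false

universe u

open CategoryTheory CategoryTheory.Limits MonoidalCategory CartesianMonoidalCategory MonObj GrpObj AlgebraicGeometry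

namespace Groth.Agent.BGFormLib

open Groth.Agent.ASt Groth.Agent.IsoNatClean Groth.Agent.IsoAutLib Groth.Agent.DecSec.QuotSch

variable {S : Scheme.{u}} (G : Over S) [GrpObj G]

/-- The functor of trivial torsors. -/
noncomputable abbrev yTriv : FibCat.overCat (𝟙_ (Over S)) ⥤ᵇ AlgSt.BG Scheme.fppfPrecoverage G :=
  BasedFunctor.comp (AlgSt.ofOverCat _) (AlgSt.quotMap Scheme.fppfPrecoverage G (AlgSt.trivAction G))

variable {G} [hfib : FibCat.IsFibGrpd (AlgSt.BG Scheme.fppfPrecoverage G).p]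

/-- The element of the group of an automorphism of a trivial torsor. -/
noncomputable def autElt {T : Over S} {k : T ⟶ 𝟙_ (Over S)} (a : AutG (yTriv G) k) : T ⟶ G :=
  (unitSec T ≫ a.hom.top) ≫ fst G T

theorem base_eq {T : Over S} {k : T ⟶ 𝟙_ (Over S)} (a : AutG (yTriv G) k) : a.hom.base = 𝟙 T := a.vert

theorem unit_top {T : Over S} {k : T ⟶ 𝟙_ (Over S)} (a : AutG (yTriv G) k) :
    unitSec T ≫ a.hom.top = lift (autElt a) (𝟙 T) := by
  refine CartesianMonoidalCategory.hom_ext _ _ (lift_fst _ _).symm ?_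
  rw [lift_snd]
  exact (unit_π a.hom).trans (base_eq a)

theorem autElt_injective {T : Over S} {k : T ⟶ 𝟙_ (Over S)} :
    Function.Injective (autElt (G := G) (k := k)) := fun a b h => by
  refine AutG.ext (DecSec.QuotSch.hom_ext ((base_eq a).trans (base_eq b).symm) ?_)
  refine ((unit_top a).trans ?_).trans (unit_top b).symm
  rw [h]

theorem autElt_mul {T : Over S} {k : T ⟶ 𝟙_ (Over S)} (a b : AutG (yTriv G) k) :
    autElt (a * b) = autElt a * autElt b := by
  have hb : b.hom.top = (G ◁ lift (autElt b) (𝟙 T)) ≫ (AlgSt.leftMul G T).act :=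
    (hom_top b.hom).trans (congrArg (fun l => (G ◁ l) ≫ (AlgSt.leftMul G T).act) (unit_top b))
  change (unitSec T ≫ a.hom.top ≫ b.hom.top) ≫ fst G T = _
  rw [← Category.assoc, hb]
  refine (congrArg (fun l => (l ≫ (G ◁ lift (autElt b) (𝟙 T)) ≫ (AlgSt.leftMul G T).act) ≫ fst G T)
    (unit_top a)).trans ?_
  rw [whisker_leftMul]
  simp [comp_lift, comp_mul]

theorem comm_yTriv [IsCommMonObj G] {T : Over S} (k : T ⟶ 𝟙_ (Over S)) (a b : AutG (yTriv G) k) :
    a * b = b * a := autElt_injective (by rw [autElt_mul, autElt_mul, mul_comm])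

theorem isLocForm_yTriv {T : Over S} (c : ClType (AlgSt.BG Scheme.fppfPrecoverage G) T) :
    IsLocForm (yTriv G) c := by
  obtain ⟨A, hA, rfl⟩ := cl_exists c
  cases hA
  let Sv : Sieve A.base :=
    { arrows := fun V g => ∃ l : V ⟶ A.P, l ≫ A.π = g
      downward_closed := fun {V W g} ⟨l, hl⟩ m => ⟨m ≫ l, by rw [Category.assoc, hl]⟩ }
  have hSv : Sv ∈ AlgSp.J S A.base := by
    rw [AlgSp.J_eq, GrothendieckTopology.mem_over_iff]
    obtain ⟨R, hR, hs⟩ := A.loc
    refine (Scheme.fppfTopology).superset_covering ?_ (Precoverage.generate_mem_toGrothendieck hR)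
    rw [Sieve.generate_le_iff]
    intro W f hf
    obtain ⟨s, hs⟩ := hs f hf
    rw [Sieve.overEquiv_iff]
    exact ⟨Over.homMk s (by
      change s ≫ A.P.hom = f ≫ A.base.hom
      rw [← Over.w A.π, ← Category.assoc]
      exact congrArg (· ≫ A.base.hom) hs), Over.OverMorphism.ext hs⟩
  refine ⟨Sv, hSv, fun V g ⟨l, hl⟩ => ⟨toUnit V, ?_⟩⟩
  obtain ⟨m, ⟨hm, -⟩, -⟩ := existsUnique_hom (K := Scheme.fppfPrecoverage) (toUnit V) A g l hl (toUnit_unique _ _)
  refine (clMap_cl g (m : (yTriv G).obj (ov (toUnit V)) ⟶ A) rfl rfl ?_).trans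
    (Doubled.clMap_base0 (y := yTriv G) (toUnit V)).symm
  change m.base = _
  rw [hm]
  simp

theorem exists_equiv_BG [IsCommMonObj G] {𝒴 : AlgSt.Cat S} [FibCat.IsFibGrpd 𝒴.p]
    (hst : Stk.IsStack (AlgSp.J S) (AlgSt.BG Scheme.fppfPrecoverage G)) (hst' : Stk.IsStack (AlgSp.J S) 𝒴)
    (hd : AlgSt.RepByAlgSpWith (AlgSp.IsSeparatedMor ⊓ AlgSp.IsQuasiCompactMor)
      (FibCat.diag (FibCat.toSelf (AlgSt.BG Scheme.fppfPrecoverage G))))
    (hd' : AlgSt.RepByAlgSpWith (AlgSp.IsSeparatedMor ⊓ AlgSp.IsQuasiCompactMor)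
      (FibCat.diag (FibCat.toSelf 𝒴)))
    (φ : IsoNat.FIso (AlgSt.BG Scheme.fppfPrecoverage G) 𝒴) :
    ∃ e : (AlgSt.BG Scheme.fppfPrecoverage G) ⥤ᵇ 𝒴, FibCat.IsEquivOver e := by
  obtain ⟨e₁, he₁, he'⟩ := cl_exists (show ClType 𝒴 (𝟙_ (Over S)) from φ.toEquiv _ (Doubled.base0 (yTriv G)))
  let y' : FibCat.overCat (𝟙_ (Over S)) ⥤ᵇ 𝒴 := fibY ⟨e₁, he₁⟩
  have he : φ.toEquiv _ (Doubled.base0 (yTriv G)) = Doubled.base0 y' := by
    rw [base0_fibY]
    exact he'
  refine exists_equiv_of_form (y := yTriv G) (y' := y')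
    { term := fun a b => toUnit_unique a b
      Φ := fun k => phi φ hst hst' hd hd' he (fun k => comm_yTriv k) k
      nat := fun g e a => phi_res φ hst hst' hd hd' he (fun k => comm_yTriv k) g e a }
    hst hst' isLocForm_yTriv fun {T} c' => ?_
  obtain ⟨R, hR, h⟩ := isLocForm_yTriv ((φ.toEquiv T).symm c')
  refine ⟨R, hR, fun V g hg => ?_⟩
  obtain ⟨k, hk⟩ := h g hg
  refine ⟨k, ?_⟩
  have h2 := congrArg (φ.toEquiv V) hk
  rw [toEquiv_clMap φ, toEquiv_clMap φ, Equiv.apply_symm_apply] at h2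
  exact h2.trans (congrArg (clMap k) he)

end Groth.Agent.BGFormLib
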